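import Cfsg.Agent.PQ.Car2.A

/-!
# PQ, the anticommutation relations, part 2 (helper8)

* `X_eq`, `Y_eq`, `up_single`, `dn_single` : formulas for the fermions;
* `P1 C` : the relations of part 1; `car_of : P1 C → CAR C`.
-/

set_option autoImplicit false
set_option linter.unusedSectionVars false
set_option linter.unusedVariables false
set_option linter.unnecessarySeqFocus false

namespace Cfsg.Agent.PQ.Car2

open Module Cfsg.Agent.PQ.Th Finset
open scoped ComplexConjugate

variable {V : Type} [AddCommGroup V] [Module ℂ V] {H : HS V} (C : Cyc H) {A A' : ℤ → End ℂ V} {f e : Bool} {u : V} {n : ℤ}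

/-! ### the operators `X`, `Y` -/

theorem X_eq (A : ℤ → End ℂ V) (d : ℤ) {N : ℕ} (hN : n < N) (hu : u ∈ Le H n) :
    C.X A d u = ∑ j ∈ range N, A (d + j) (inv C.hs j u) := by
  rw [sup_ext (A := C.X A d) (B := ∑ j ∈ range N, A (d + j) * inv C.hs j) (fun i hi => ?_) hu, LinearMap.sum_apply]
  · rfl
  · rw [LinearMap.sum_apply]
    exact (mk'_b _ i).trans (sum_subset (range_subset_range.2 (by omega)) fun j _ hj => by
      have h1 := mt mem_range.2 hj
      rw [(ty_es C j).zero (b_le i) (by omega), map_zero])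

theorem Y_eq (hA : ∀ d, Ty H (A d) d f) (d : ℤ) {N : ℕ} (hN : n + d < N) (hu : u ∈ Le H n) :
    C.Y A d u = ∑ j ∈ range N, inv C.h j (A (d - j) u) := by
  rw [sup_ext (A := C.Y A d) (B := ∑ j ∈ range N, inv C.h j * A (d - j)) (fun i hi => ?_) hu, LinearMap.sum_apply]
  · rfl
  · rw [LinearMap.sum_apply]
    have h1 : ∀ j : ℕ, (H.rk i : ℤ) + d < j → inv C.h j (A (d - j) (H.b i)) = 0 := fun j hj => by
      rw [(hA _).zero (b_le i) (by omega), map_zero]
    refine (mk'_b _ i).trans ((sum_subset (range_subset_range.2 (le_max_left _ N)) fun j _ hj => h1 j ?_).trans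
      (sum_subset (range_subset_range.2 (le_max_right _ N)) fun j _ hj => h1 j ?_).symm) <;> have h2 := mt mem_range.2 hj <;> omega

theorem ty_X (hA : ∀ d, Ty H (A d) d f) (d : ℤ) : Ty H (C.X A d) d f := by
  have h1 : ∀ i, C.X A d (H.b i) = (∑ j ∈ range (H.rk i + 1), A (d + j) * inv C.hs j) (H.b i) := fun i => by
    rw [LinearMap.sum_apply]
    exact mk'_b _ i
  have h2 : ∀ N, Ty H (∑ j ∈ range N, A (d + j) * inv C.hs j) d f := fun N => Ty.sum fun j _ =>
    Bool.xor_false f ▸ ((hA _).mul (ty_es C j)).cast (by omega)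
  exact Ty.of_b (fun i => h1 i ▸ (h2 _).le (b_le i)) fun e i hi => h1 i ▸ (h2 _).par hi

theorem ty_Y (hA : ∀ d, Ty H (A d) d f) (d : ℤ) : Ty H (C.Y A d) d f := by
  have h1 : ∀ i, C.Y A d (H.b i) = (∑ j ∈ range ((H.rk i + d).toNat + 1), inv C.h j * A (d - j)) (H.b i) := fun i => by
    rw [LinearMap.sum_apply]
    exact mk'_b _ i
  have h2 : ∀ N, Ty H (∑ j ∈ range N, inv C.h j * A (d - j)) d f := fun N => Ty.sum fun j _ =>
    Bool.false_xor f ▸ ((ty_e C j).mul (hA _)).cast (by omega)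
  exact Ty.of_b (fun i => h1 i ▸ (h2 _).le (b_le i)) fun e i hi => h1 i ▸ (h2 _).par hi

theorem es_R (d : ℤ) (k : ℕ) : inv C.hs (k + 1) * C.R d = C.R d * inv C.hs (k + 1) - C.R (d - 1) * inv C.hs k := by
  rw [inv_rule (B := -C.R (d - 1)) (hs_zero C) (hs_hs C) (fun n => ?_) k, neg_mul, ← sub_eq_add_neg]
  rw [mul_neg, C.g3', C.g3', sum_range_succ _ (n + 1), sub_add_cancel, show d - ((n + 1 : ℕ) : ℤ) = d - 1 - n by push_cast; ring]
  abel

theorem hs1_R (d : ℤ) : C.hs 1 * C.R d = C.R d * C.hs 1 + C.R (d - 1) := by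
  rw [C.g3', sum_range_succ, sum_range_one, hs_zero, mul_one, add_comm]
  simp

theorem hs1_e (k : ℕ) : C.hs 1 * inv C.h (k + 1) = inv C.h (k + 1) * C.hs 1 - 2 * inv C.h k := by
  rw [inv_rule (B := 2) C.h0 (hh C) (fun n => ?_) k, add_sub_cancel_right]
  rw [C.g2, show min 1 (n + 1) = 1 by omega, sum_range_succ, sum_range_one, Nat.sub_self, hs_zero, mul_two]
  simp [add_smul]

theorem hs1_X (d : ℤ) : C.hs 1 * C.X C.R d = C.X C.R d * C.hs 1 + C.X C.R (d - 1) := H.b.ext fun i => by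
  have h1 : (H.rk i : ℤ) < (H.rk i + 1 : ℕ) := by omega
  show C.hs 1 (C.X C.R d _) = C.X C.R d (C.hs 1 _) + C.X C.R (d - 1) _
  rw [X_eq C _ _ h1 (b_le i), X_eq C _ _ h1 (b_le i), X_eq C _ _ h1 (le_mono (by omega) ((ty_hs C 1).le (b_le i))), map_sum,
    ← sum_add_distrib]
  refine sum_congr rfl fun j _ => (LinearMap.congr_fun (hs1_R C _) _).trans ?_
  rw [sub_add_eq_add_sub]
  exact congrArg (C.R (d + j) · + _) (LinearMap.congr_fun (comm_inv (hs_hs C 1) j).eq _)

theorem hs1_Y (d : ℤ) : C.hs 1 * C.Y C.R d = C.Y C.R d * C.hs 1 - C.Y C.R (d - 1) := H.b.ext fun i => by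
  obtain ⟨N, hN⟩ : ∃ N : ℕ, H.rk i + d < N := ⟨(H.rk i + d).toNat + 1, by omega⟩
  show C.hs 1 (C.Y C.R d _) = C.Y C.R d (C.hs 1 _) - C.Y C.R (d - 1) _
  have h1 := Y_eq C (ty_R C) (d - 1) (N := N) (by omega) (b_le i)
  have h2 := Y_eq C (ty_R C) (d - 1) (N := N + 1) (by omega) (b_le i)
  have h3 : ∀ j, C.hs 1 (inv C.h j (C.R (d - j) (H.b i))) = inv C.h j (C.R (d - j) (C.hs 1 (H.b i))) +
      inv C.h j (C.R (d - 1 - j) (H.b i)) - (C.hs 1 * inv C.h j - inv C.h j * C.hs 1) (-C.R (d - j) (H.b i)) := fun j => by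
    have h4 : C.hs 1 (C.R (d - j) (H.b i)) = C.R (d - j) (C.hs 1 (H.b i)) + C.R (d - j - 1) (H.b i) :=
      LinearMap.congr_fun (hs1_R C _) _
    rw [map_neg, sub_neg_eq_add, LinearMap.sub_apply, End.mul_apply, End.mul_apply, h4, map_add, sub_right_comm d 1]
    abel
  rw [Y_eq C (ty_R C) d (N := N + 1) (by omega) (b_le i), Y_eq C (ty_R C) d (N := N + 1) (n := H.rk i) (by omega)
    (le_mono (by omega) ((ty_hs C 1).le (b_le i))), map_sum]
  simp only [h3]
  rw [sum_sub_distrib, sum_add_distrib, ← h2, sum_range_succ' fun j => (C.hs 1 * inv C.h j - inv C.h j * C.hs 1) _, inv_zero, mul_one,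
    one_mul, sub_self, LinearMap.zero_apply, add_zero, add_sub_assoc, sub_eq_add_neg (∑ _ ∈ _, _), add_right_inj,
    sum_congr rfl (g := fun j => inv C.h j (C.R (d - 1 - j) (H.b i)) + inv C.h j (C.R (d - 1 - j) (H.b i))) fun j _ => ?_,
    sum_add_distrib, ← h1, sub_add_cancel_left]
  rw [hs1_e, sub_sub_cancel_left, two_mul, LinearMap.neg_apply, map_neg, neg_neg, Nat.cast_succ, ← sub_sub, sub_right_comm]
  rfl

/-! ### the Fock space -/

theorem mv_single (s : ℤ) (A : ℤ → End ℂ V) (M : ℤ) (u : V) : mv s A (Finsupp.single M u) = Finsupp.single (M + s) (A M u) :=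
  Finsupp.lsum_single ℂ _ M u

theorem fock_b (M : ℤ) (i : H.ι) : H.fock.b ⟨M, i⟩ = Finsupp.single M (H.b i) := congrFun (Finsupp.coe_basis fun _ => H.b) ⟨M, i⟩

theorem up_single (A : ℤ → End ℂ V) (x M : ℤ) (hu : u ∈ Par H e) :
    Cyc.up (H := H) A x (Finsupp.single M u) = Finsupp.single (M + 1 - cond e 0 1) (A (x - M) u) := by
  show mv 1 (fun M => A (x - M) * H.po) (Finsupp.single M u) + mv 0 (fun M => A (x - M) * H.pe) (Finsupp.single M u) = _
  rw [mv_single, mv_single, End.mul_apply, End.mul_apply]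
  cases e
  · rw [po_even hu, pe_even hu, map_zero, Finsupp.single_zero, zero_add, add_zero, cond_false, add_sub_cancel_right]
  · rw [po_odd hu, pe_odd hu, map_zero, Finsupp.single_zero, add_zero, cond_true, sub_zero]

theorem dn_single (A : ℤ → End ℂ V) (x M : ℤ) (hu : u ∈ Par H e) :
    Cyc.dn (H := H) A x (Finsupp.single M u) = Finsupp.single (M - cond e 0 1) (A (M - cond e 0 1 - x) u) := by
  show mv 0 (fun M => A (M - x) * H.po) (Finsupp.single M u) + mv (-1) (fun M => A (M - 1 - x) * H.pe) (Finsupp.single M u) = _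
  rw [mv_single, mv_single, End.mul_apply, End.mul_apply]
  cases e
  · rw [po_even hu, pe_even hu, map_zero, Finsupp.single_zero, zero_add, cond_false, sub_eq_add_neg M]
  · rw [po_odd hu, pe_odd hu, map_zero, Finsupp.single_zero, add_zero, add_zero, cond_true, sub_zero]

variable (hA : ∀ d, Ty H (A d) d true) (hA' : ∀ d, Ty H (A' d) d true)
include hA'

theorem upup (x y M : ℤ) (hu : u ∈ Par H e) : (Cyc.up (H := H) A x * Cyc.up (H := H) A' y) (Finsupp.single M u) =
    Finsupp.single (M + 1) (A (x - M - 1 + cond e 0 1) (A' (y - M) u)) := by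
  rw [End.mul_apply, up_single _ _ _ hu, up_single _ _ _ ((hA' _).par hu)]
  cases e <;> congr 3 <;> simp <;> ring

theorem updn (x y M : ℤ) (hu : u ∈ Par H e) : (Cyc.up (H := H) A x * Cyc.dn (H := H) A' y) (Finsupp.single M u) =
    Finsupp.single M (A (x - M + cond e 0 1) (A' (M - cond e 0 1 - y) u)) := by
  rw [End.mul_apply, dn_single _ _ _ hu, up_single _ _ _ ((hA' _).par hu)]
  cases e <;> congr 3 <;> simp <;> ring

theorem dnup (x y M : ℤ) (hu : u ∈ Par H e) : (Cyc.dn (H := H) A y * Cyc.up (H := H) A' x) (Finsupp.single M u) =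
    Finsupp.single M (A (M - y) (A' (x - M) u)) := by
  rw [End.mul_apply, up_single _ _ _ hu, dn_single _ _ _ ((hA' _).par hu)]
  cases e <;> congr 3 <;> simp

omit hA'

/-- the pieces of the Fock space -/
noncomputable def S (H : HS V) (e : Bool) (M n : ℤ) : Submodule ℂ (ℤ →₀ V) := (Par H e ⊓ Le H n).map (Finsupp.lsingle M)

theorem S_neg {M : ℤ} (h : n < 0) {w : ℤ →₀ V} (hw : w ∈ S H e M n) : w = 0 := by
  obtain ⟨u, hu, rfl⟩ := hw
  rw [le_neg h hu.2, map_zero]

theorem mem_S {M a b m : ℤ} {B B' : End ℂ V} (h : Ty H B a true) (h' : Ty H B' b true) (hu : u ∈ Par H e ⊓ Le H n) (hm : n + (a + b) ≤ m) :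
    Finsupp.single M (B (B' u)) ∈ S H e M m := ⟨_, ⟨(h.mul h').keep hu.1, le_mono hm ((h.mul h').le hu.2)⟩, rfl⟩

include hA hA'

theorem nil_up (x y : ℤ) (i : H.fock.ι) : ∃ k, ((Cyc.up (H := H) A x * Cyc.up (H := H) A' y +
    Cyc.up (H := H) A' y * Cyc.up (H := H) A x) ^ k) (H.fock.b i) = 0 := by
  obtain ⟨M, i⟩ := i
  obtain ⟨e, he, -⟩ := b_par i
  obtain ⟨k, hk⟩ : ∃ k : ℕ, H.rk i + |x + y - 2 * M| + 2 = k := ⟨(H.rk i + |x + y - 2 * M| + 2).toNat, by
    have := abs_nonneg (x + y - 2 * M); omega⟩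
  refine ⟨k, S_neg (e := e) (M := M + k) (n := H.rk i + k * (x + y - 2 * M) - k * (k - 1)) ?_
    (iter (fun k => S H e (M + k) (H.rk i + k * (x + y - 2 * M) - k * (k - 1))) ?_ ?_ k)⟩
  · have h1 := le_abs_self (x + y - 2 * M)
    have h2 := abs_nonneg (x + y - 2 * M)
    have h3 : (0 : ℤ) ≤ H.rk i := Int.natCast_nonneg _
    nlinarith
  · rintro k _ ⟨u, hu, rfl⟩
    rw [Finsupp.lsingle_apply, LinearMap.add_apply, upup hA' _ _ _ hu.1, upup hA _ _ _ hu.1, Nat.cast_succ, ← add_assoc]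
    refine add_mem (mem_S (hA _) (hA' _) hu ?_) (mem_S (hA' _) (hA _) hu ?_) <;> cases e <;> simp only [cond] <;> linarith
  · rw [fock_b]
    exact ⟨_, ⟨he, le_mono (by simp) (b_le i)⟩, by rw [Nat.cast_zero, add_zero]; rfl⟩

theorem nil_lo {x y : ℤ} (h : x < y) (i : H.fock.ι) : ∃ k, ((Cyc.up (H := H) A x * Cyc.dn (H := H) A' y +
    Cyc.dn (H := H) A' y * Cyc.up (H := H) A x) ^ k) (H.fock.b i) = 0 := by
  obtain ⟨M, i⟩ := i
  obtain ⟨e, he, -⟩ := b_par i
  refine ⟨H.rk i + 1, S_neg (e := e) (M := M) (n := H.rk i - (H.rk i + 1 : ℕ)) (by omega)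
    (iter (fun k => S H e M (H.rk i - k)) ?_ ?_ _)⟩
  · rintro k _ ⟨u, hu, rfl⟩
    rw [Finsupp.lsingle_apply, LinearMap.add_apply, updn hA' _ _ _ hu.1, dnup hA _ _ _ hu.1]
    refine add_mem (mem_S (hA _) (hA' _) hu ?_) (mem_S (hA' _) (hA _) hu ?_) <;> omega
  · rw [fock_b]
    exact ⟨_, ⟨he, le_mono (by simp) (b_le i)⟩, rfl⟩

omit hA hA'

/-- the families of the creation operators -/
noncomputable def fa (r : Bool) (d : ℤ) : End ℂ V := cond r (C.X C.L d * H.J) (C.X C.R d)

/-- the families of the annihilation operators -/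
noncomputable def fb (r : Bool) (d : ℤ) : End ℂ V := cond r (H.J * C.Y C.R d) (C.Y C.L d)

theorem ps_eq (r : Bool) (x : ℤ) : C.ps (r, x) = Cyc.up (H := H) (fa C r) x := by cases r <;> rfl

theorem pt_eq (r : Bool) (x : ℤ) : C.pt (r, x) = Cyc.dn (H := H) (fb C r) x := by cases r <;> rfl

theorem ty_fa : ∀ (r : Bool) (d : ℤ), Ty H (fa C r d) d true
  | false, d => ty_X C (ty_R C) d
  | true, d => ((ty_X C (ty_L C) d).mul ty_J).cast (add_zero d)

theorem ty_fb : ∀ (r : Bool) (d : ℤ), Ty H (fb C r d) d true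
  | false, d => ty_Y C (ty_L C) d
  | true, d => (ty_J.mul (ty_Y C (ty_R C) d)).cast (zero_add d)

/-! ### the vacuum -/

theorem om : C.Om ∈ C.Vac := by
  have h1 : H.b C.o ∈ Par H true := b_mem (iff_of_true (Or.inl C.o_df) rfl)
  have h2 : H.b C.o ∈ Le H 0 := le_mono (by rw [C.o_rk]; rfl) (b_le C.o)
  refine ⟨fun ⟨r, x⟩ h => ?_, fun ⟨r, x⟩ h => ?_⟩
  · show C.ps (r, x) (Finsupp.single 0 _) = 0
    rw [ps_eq, up_single _ _ _ h1, sub_zero x, Finsupp.single_eq_zero]
    rcases lt_or_ge x 0 with h3 | h3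
    · exact (ty_fa C r x).zero h2 (by omega)
    · cases r
      · obtain rfl : x = 0 := le_antisymm h h3
        refine (X_eq C _ _ (N := 1) (by omega) h2).trans ?_
        rw [sum_range_one, inv_zero]
        exact C.o_R
      · exact absurd (show x ≤ -1 from h) (by omega)
  · show C.pt (r, x) (Finsupp.single 0 _) = 0
    rw [pt_eq, dn_single _ _ _ h1, Finsupp.single_eq_zero, cond_true, sub_zero, zero_sub]
    rcases lt_or_ge 0 x with h3 | h3
    · exact (ty_fb C r _).zero h2 (by omega)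
    · cases r
      · exact absurd h3 h
      · obtain rfl : x = 0 := le_antisymm h3 (by have : ¬ x ≤ -1 := h; omega)
        show H.J (C.Y C.R _ _) = 0
        rw [Y_eq C (ty_R C) _ (N := 1) (by omega) h2, sum_range_one, inv_zero]
        exact (congrArg H.J C.o_R).trans (map_zero _)

theorem zero_of_Y (hA : ∀ d, Ty H (A d) d f) {c : ℤ} (h : ∀ d ≤ c, C.Y A d u = 0) : ∀ d ≤ c, A d u = 0 := by
  obtain ⟨n, hn⟩ := exists_le (H := H) u
  have h1 : ∀ m : ℕ, ∀ d ≤ c, n + d < m → A d u = 0 := fun m => by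
    induction m with
    | zero => exact fun d _ hd => (hA d).zero hn hd
    | succ m ih =>
      intro d hd h2
      have h3 := h d hd
      rwa [Y_eq C hA d h2 hn, sum_range_succ', sum_eq_zero fun j _ => by rw [ih _ (by omega) (by omega), map_zero], zero_add, inv_zero,
        Nat.cast_zero, sub_zero] at h3
  exact fun d hd => h1 ((n + d).toNat + 1) d hd (by omega)

theorem vac_hs (u : V) (h : H.po u = u) (hv : Finsupp.single 0 u ∈ C.Vac) (j : ℕ) (hj : 0 < j) : C.hs j u = 0 := by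
  have h1 : u ∈ Par H true := h ▸ po_mem u
  have h2 : ∀ r d, ¬ Sea (r, -d) → fb C r d u = 0 := fun r d hd => by
    have h3 := hv.2 _ hd
    rwa [pt_eq, dn_single _ _ _ h1, Finsupp.single_eq_zero, cond_true, sub_zero, zero_sub, neg_neg] at h3
  have h3 := zero_of_Y C (ty_L C) (c := -1) fun d hd => h2 false d (show ¬ -d ≤ 0 by omega)
  have h4 := zero_of_Y C (ty_R C) (c := 0) fun d hd => neg_eq_zero.1
    ((J_even ((ty_Y C (ty_R C) d).par h1)).symm.trans (h2 true d (show ¬ -d ≤ -1 by omega)))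
  obtain ⟨n, hn⟩ := exists_le (H := H) u
  have h5 : ∀ m : ℕ, 0 < m → ∑ i ∈ range (n + 1), ez C.h (i - m) (C.hs i u) = 0 := fun m hm => by
    have h6 := sup_ext (P := fun i => (Od (H.df i) ↔ true = true) ∧ (H.rk i : ℤ) ≤ n) (u := u)
      (A := C.L (-1) * C.R (-(m - 1)) + C.R (0 - (m - 1)) * C.L (-1 - 0)) (B := ∑ i ∈ range (n + 1), ez C.h (i - m) * C.hs i)
      (fun i hi => ?_) fun i hi => (not_and_or.1 hi).elim (h1 i) (hn i)
    · rw [LinearMap.add_apply, End.mul_apply, End.mul_apply, h3 _ (by omega), h4 _ (by omega), map_zero, map_zero, add_zero,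
        LinearMap.sum_apply] at h6
      exact h6.symm
    · have h7 := C.g4 (-1) (m - 1) i
      rw [show H.dl i = 0 from if_pos (hi.1.2 rfl)] at h7
      rw [LinearMap.sum_apply]
      refine h7.trans ((sum_subset (range_subset_range.2 (by omega)) fun j _ hj => ?_).trans (sum_congr rfl fun j _ => ?_))
      · have h8 := mt mem_range.2 hj
        rw [(ty_hs C j).zero (b_le i) (by omega), map_zero]
      · rw [show -1 - ((m : ℤ) - 1) + j = j - m by ring]
        rfl
  have h6 : ∀ k m : ℕ, 0 < m → n < m + k → C.hs m u = 0 := fun k => by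
    induction k with
    | zero => exact fun m _ h7 => (ty_hs C m).zero hn (by omega)
    | succ k ih =>
      intro m hm h7
      rcases lt_or_ge n m with h8 | h8
      · exact (ty_hs C m).zero hn (by omega)
      have h9 := h5 m hm
      rwa [sum_eq_single_of_mem m (mem_range.2 (by omega)) fun i _ hi => ?_, sub_self, show ez C.h 0 = 1 from (ez_nat _ 0).trans C.h0] at h9
      rcases lt_or_gt_of_ne hi with h10 | h10
      · rw [ez_neg _ (by omega), LinearMap.zero_apply]
      · rw [ih i (by omega) (by omega), map_zero]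
  exact h6 (n + 1) j hj (by omega)

/-! ### the relations -/

/-- the relations of part 1 -/
structure P1 : Prop where
  adj : ∀ c, H.fock.Adj (C.ps c) (C.pt c)
  st : ∀ r x y, C.ps (r, x) * C.pt (r, y) + C.pt (r, y) * C.ps (r, x) = if x = y then 1 else 0
  s12 : ∀ x y, C.ps (false, x) * C.ps (true, y) + C.ps (true, y) * C.ps (false, x) = 0

variable {C}

theorem P1.st' (h : P1 C) (r : Bool) (x y : ℤ) :
    C.ps (r, x) * C.pt (r, y) + C.pt (r, y) * C.ps (r, x) = (if x = y then (1 : ℂ) else 0) • 1 := by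
  rw [h.st]
  split_ifs
  · exact (one_smul _ _).symm
  · exact (zero_smul _ _).symm

theorem P1.ss (h : P1 C) : ∀ c c', C.ps c * C.ps c' + C.ps c' * C.ps c = 0 := by
  have h1 : ∀ r x y, C.ps (r, x) * C.ps (r, y) + C.ps (r, y) * C.ps (r, x) = 0 := fun r x y => by
    have h2 : ∀ z, Commute (C.ps (r, x) * C.ps (r, y) + C.ps (r, y) * C.ps (r, x)) (C.pt (r, z)) := fun z =>
      comm_anti (h.st' r x z) (h.st' r y z)
    refine zero_of_normal (adj_add (adj_mul (h.adj _) (h.adj _)) (adj_mul (h.adj _) (h.adj _)))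
      (((h2 y).mul_right (h2 x)).add_right ((h2 x).mul_right (h2 y))) ?_
    rw [ps_eq, ps_eq]
    exact nil_up (ty_fa C r) (ty_fa C r) x y
  rintro ⟨_ | _, x⟩ ⟨_ | _, y⟩
  · exact h1 _ x y
  · exact h.s12 x y
  · exact (add_comm _ _).trans (h.s12 y x)
  · exact h1 _ x y

theorem P1.tt (h : P1 C) (c c' : Site) : C.pt c * C.pt c' + C.pt c' * C.pt c = 0 :=
  adj_zero (adj_symm (adj_add (adj_mul (h.adj c') (h.adj c)) (adj_mul (h.adj c) (h.adj c')))) (h.ss c' c)

theorem XX (a b : ℤ) {K : ℕ} (h1 : n < K) (h2 : n + b < K) (hu : u ∈ Le H n) : C.X C.R a (C.X C.R b u) =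
    ∑ k ∈ range K, ∑ l ∈ range K, (C.R (a + k) * C.R (b + l) - C.R (a + k + 1) * C.R (b + l - 1)) (inv C.hs k (inv C.hs l u)) := by
  have h3 : ∀ k l : ℕ, C.R (a + (k + 1 : ℕ)) (inv C.hs (k + 1) (C.R (b + l) (inv C.hs l u))) =
      C.R (a + (k + 1 : ℕ)) (C.R (b + l) (inv C.hs (k + 1) (inv C.hs l u))) -
        C.R (a + k + 1) (C.R (b + l - 1) (inv C.hs k (inv C.hs l u))) := fun k l => by
    rw [show inv C.hs (k + 1) (C.R (b + l) (inv C.hs l u)) = _ from LinearMap.congr_fun (es_R C (b + l) k) _, LinearMap.sub_apply,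
      map_sub, Nat.cast_succ, ← add_assoc]
    rfl
  have h4 : ∑ k ∈ range (K + 1), ∑ l ∈ range K, C.R (a + k) (C.R (b + l) (inv C.hs k (inv C.hs l u))) =
      ∑ k ∈ range K, ∑ l ∈ range K, C.R (a + k) (C.R (b + l) (inv C.hs k (inv C.hs l u))) := by
    rw [sum_range_succ, sum_eq_zero (s := range K) (f := fun l : ℕ => C.R (a + K) (C.R (b + l) (inv C.hs K (inv C.hs l u)))) fun l _ => by
      rw [(ty_es C K).zero ((ty_es C l).le hu) (by omega), map_zero, map_zero], add_zero]
  rw [X_eq C _ a (N := K + 1) (by omega) ((ty_X C (ty_R C) b).le hu), X_eq C _ b h1 hu]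
  simp only [map_sum, LinearMap.sub_apply, End.mul_apply, sum_sub_distrib]
  rw [← h4, sum_range_succ', sum_range_succ']
  simp only [h3, sum_sub_distrib, inv_zero, End.one_apply]
  abel

theorem P1.rr (h : P1 C) : ∀ (n : ℕ) {e : Bool} {u : V}, u ∈ Par H e → u ∈ Le H (n - 1) → ∀ a b : ℤ,
    C.R a (C.R b u) = C.R (b + cond e 0 1) (C.R (a - cond e 0 1) u)
  | 0, _, _, _, hu, _, _ => by simp only [le_neg (by omega) hu, map_zero]
  | n + 1, e, u, he, hu, a, b => by
    generalize hδ : (cond e 0 1 : ℤ) = δ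
    have h1 : ∀ x y, C.R (x - 1 + δ) (C.R y u) - C.R (x + δ) (C.R (y - 1) u) +
        (C.R (y - 1 + δ) (C.R x u) - C.R (y + δ) (C.R (x - 1) u)) = 0 := fun x y => by
      have h2 := LinearMap.congr_fun (h.ss (false, x) (false, y)) (Finsupp.single 0 u)
      rw [ps_eq, ps_eq, LinearMap.add_apply, upup (ty_fa C false) _ _ _ he, upup (ty_fa C false) _ _ _ he, ← Finsupp.single_add,
        LinearMap.zero_apply, Finsupp.single_eq_zero, hδ, sub_zero, sub_zero] at h2
      obtain ⟨K, k0, k1, k2, k3⟩ : ∃ K : ℕ, 0 < K ∧ (n + 1 : ℕ) - 1 < (K : ℤ) ∧ (n + 1 : ℕ) - 1 + x < (K : ℤ) ∧ (n + 1 : ℕ) - 1 + y < (K : ℤ) :=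
        ⟨n + x.natAbs + y.natAbs + 1, by omega, by omega, by omega, by omega⟩
      have h3 : ∀ k l : ℕ, 0 < k + l → (C.R (x - 1 + δ + k) * C.R (y + l) - C.R (x - 1 + δ + k + 1) * C.R (y + l - 1))
          (inv C.hs k (inv C.hs l u)) + (C.R (y - 1 + δ + l) * C.R (x + k) - C.R (y - 1 + δ + l + 1) * C.R (x + k - 1))
          (inv C.hs l (inv C.hs k u)) = 0 := fun k l hkl => by
        have h4 := h.rr n ((ty_es C k).keep ((ty_es C l).keep he)) (le_mono (by omega) ((ty_es C k).le ((ty_es C l).le hu)))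
        rw [show inv C.hs l (inv C.hs k u) = inv C.hs k (inv C.hs l u) from
          LinearMap.congr_fun (comm_inv (fun m => (comm_inv (hs_hs C m) l).symm) k).eq u]
        simp only [LinearMap.sub_apply, End.mul_apply]
        rw [h4 (x - 1 + δ + k), h4 (y - 1 + δ + l), hδ, show y + l + δ = y - 1 + δ + l + 1 by ring, show x - 1 + δ + k - δ = x + k - 1 by ring,
          show x + k + δ = x - 1 + δ + k + 1 by ring, show y - 1 + δ + l - δ = y + l - 1 by ring]
        abel
      change C.X C.R _ (C.X C.R _ u) + C.X C.R _ (C.X C.R _ u) = 0 at h2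
      rw [XX _ _ k1 k3 hu, XX _ _ k1 k2 hu, sum_comm (f := fun k l : ℕ => (C.R (y - 1 + δ + k) * C.R (x + l) -
        C.R (y - 1 + δ + k + 1) * C.R (x + l - 1)) (inv C.hs k (inv C.hs l u))), ← sum_add_distrib,
        sum_eq_single_of_mem 0 (mem_range.2 k0) fun k _ hk => by
          rw [← sum_add_distrib]
          exact sum_eq_zero fun l _ => h3 k l (by omega), ← sum_add_distrib,
        sum_eq_single_of_mem 0 (mem_range.2 k0) fun l _ hl => h3 0 l (by omega)] at h2
      simp only [inv_zero, End.one_apply, LinearMap.sub_apply, End.mul_apply, Nat.cast_zero, add_zero] at h2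
      rwa [show x - 1 + δ + 1 = x + δ by ring, show y - 1 + δ + 1 = y + δ by ring] at h2
    let G : ℤ → ℤ → V := fun x y => C.R (x - 1 + δ) (C.R y u) - C.R (y + δ) (C.R (x - 1) u)
    have h2 : ∀ x y, G (x + 1) (y - 1) = G x y := fun x y => by
      simp only [G, add_sub_cancel_right]
      linear_combination (norm := abel) -h1 x y
    have h3 : ∀ t x y, G (x + t) (y - t) = G x y := fun t x y => by
      induction t using Int.induction_on with
      | zero => rw [add_zero, sub_zero]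
      | succ t ih => rw [← add_assoc, ← sub_sub, h2, ih]
      | pred t ih => rw [← ih, ← h2 (x + (-t - 1)), show x + (-t - 1) + 1 = x + -t by ring, show y - (-t - 1) - 1 = y - -t by ring]
    have h4 : ∀ x y, G x y = 0 := fun x y => by
      have h5 := h3 (y - x) x y
      rw [add_sub_cancel, sub_sub_cancel] at h5
      have h6 : (2 : ℂ) • G x y = 0 := by
        rw [two_smul]
        nth_rewrite 1 [← h5]
        simp only [G]
        linear_combination (norm := abel) h1 x y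
      exact (smul_eq_zero.1 h6).resolve_left two_ne_zero
    have h5 := sub_eq_zero.1 (h4 (a + 1 - δ) b)
    rwa [show a + 1 - δ - 1 + δ = a by ring, show a + 1 - δ - 1 = a - δ by ring] at h5

theorem P1.rr' (h : P1 C) (he : u ∈ Par H e) (a b : ℤ) : C.R a (C.R b u) = C.R (b + cond e 0 1) (C.R (a - cond e 0 1) u) := by
  obtain ⟨n, hn⟩ := exists_le (H := H) u
  exact h.rr (n + 1) he (le_mono (by omega) hn) a b

theorem P1.ll (h : P1 C) (a b : ℤ) (i : H.ι) : C.L a (C.L b (H.b i)) = C.L (b + H.dl i) (C.L (a - H.dl i) (H.b i)) := by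
  have h1 : ∀ d, H.Adj (C.L d) (C.R (-d)) := fun d => by
    have h2 := adj_symm (C.R_adj (-d))
    rwa [neg_neg] at h2
  obtain ⟨e, he, h2⟩ := b_par i
  refine ip_ext (H := H) fun j => ?_
  obtain ⟨e', he', -⟩ := b_par j
  by_cases h3 : e' = e
  · rw [h1, h1, h1, h1, h.rr' he', h2, h3, neg_sub, neg_add', add_comm (-a), ← sub_eq_add_neg]
  · have h4 : ∀ v ∈ Par H e, H.ip v (H.b j) = 0 := fun v hv => (ip_b_right v j).trans (hv j fun h5 => by
      have h6 := he' j fun h7 => h3 (Bool.eq_iff_iff.2 (h7.symm.trans h5))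
      rw [H.b.repr_self, Finsupp.single_eq_same] at h6
      exact one_ne_zero h6)
    exact (h4 _ (((ty_L C _).mul (ty_L C _)).keep he)).trans (h4 _ (((ty_L C _).mul (ty_L C _)).keep he)).symm

theorem P1.cross (h : P1 C) (x y : ℤ) : C.ps (false, x) * C.pt (true, y) + C.pt (true, y) * C.ps (false, x) = 0 := by
  have h0 : ∀ {R : Type} [Ring R] [Algebra ℂ R] {a b : R}, a + b = 0 → a + b = (0 : ℂ) • 1 := fun h => h.trans (zero_smul _ _).symm
  have ha : ∀ x y, H.fock.Adj (C.ps (false, x) * C.pt (true, y) + C.pt (true, y) * C.ps (false, x))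
      (C.ps (true, y) * C.pt (false, x) + C.pt (false, x) * C.ps (true, y)) := fun x y =>
    adj_add (adj_mul (h.adj _) (adj_symm (h.adj _))) (adj_mul (adj_symm (h.adj _)) (h.adj _))
  have hc : ∀ x y, Commute (C.ps (false, x) * C.pt (true, y) + C.pt (true, y) * C.ps (false, x))
      (C.ps (true, y) * C.pt (false, x) + C.pt (false, x) * C.ps (true, y)) := fun x y => by
    have h1 := comm_anti (h.st' false x x) (h0 (h.tt (true, y) (false, x)))
    have h2 := comm_anti (h0 (h.s12 x y)) ((add_comm _ _).trans (h.st' true y y))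
    exact (h2.mul_right h1).add_right (h1.mul_right h2)
  have h1 : ∀ x y, x ≠ y → C.ps (false, x) * C.pt (true, y) + C.pt (true, y) * C.ps (false, x) = 0 := fun x y hxy => by
    rcases lt_or_gt_of_ne hxy with h2 | h2
    · refine zero_of_normal (ha x y) (hc x y) ?_
      rw [ps_eq, pt_eq]
      exact nil_lo (ty_fa C false) (ty_fb C true) h2
    · refine adj_zero (ha x y) (zero_of_normal (adj_symm (ha x y)) (hc x y).symm ?_)
      rw [ps_eq, pt_eq]
      exact nil_lo (ty_fa C true) (ty_fb C false) h2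
  let t : Bool → ℤ → ℤ → End ℂ V := fun e a b =>
    C.X C.R (a + cond e 0 1) * (H.J * C.Y C.R (-cond e 0 1 - b)) + H.J * C.Y C.R (-b) * C.X C.R a
  have h2 : ∀ x y M e, ∀ u ∈ Par H e, (C.ps (false, x) * C.pt (true, y) + C.pt (true, y) * C.ps (false, x)) (Finsupp.single M u) =
      Finsupp.single M (t e (x - M) (y - M) u) := fun x y M e u hu => by
    rw [ps_eq, pt_eq, LinearMap.add_apply, updn (ty_fb C true) _ _ _ hu, dnup (ty_fa C false) _ _ _ hu, ← Finsupp.single_add,
      show M - cond e 0 1 - y = -cond e 0 1 - (y - M) by ring, ← neg_sub y M]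
    rfl
  have h3 : ∀ e b, ∀ u ∈ Par H e, t e (b + 1) b u = 0 := fun e b u hu => by
    have h4 := h2 (b + 1) b 0 e u hu
    rwa [h1 _ _ (by omega), LinearMap.zero_apply, eq_comm, Finsupp.single_eq_zero, sub_zero, sub_zero] at h4
  have h4 : ∀ e b, C.hs 1 * t e (b + 1) b = t e (b + 1) b * C.hs 1 + (t e b b - t e (b + 1) (b + 1)) := fun e b => by
    have h5 := (ty_hs C 1).comm_J
    simp only [t]
    rw [mul_add, ← mul_assoc, hs1_X, add_mul, mul_assoc _ (C.hs 1), ← mul_assoc (C.hs 1), h5, mul_assoc H.J, hs1_Y,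
      ← mul_assoc (C.hs 1), ← mul_assoc (C.hs 1), h5, mul_assoc H.J, hs1_Y, mul_sub H.J (C.Y C.R (-b) * _), sub_mul, mul_assoc H.J,
      mul_assoc _ (C.hs 1), hs1_X, add_sub_cancel_right, add_right_comm b 1, add_sub_cancel_right, sub_sub, ← neg_add']
    simp only [mul_add, add_mul, mul_sub, mul_assoc]
    abel
  have h5 : ∀ e b, ∀ u ∈ Par H e, t e b b u = t e (b + 1) (b + 1) u := fun e b u hu => by
    have h6 := LinearMap.congr_fun (h4 e b) u
    rw [LinearMap.add_apply, End.mul_apply, End.mul_apply, h3 e b u hu, h3 e b _ ((ty_hs C 1).keep hu), map_zero, zero_add] at h6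
    exact sub_eq_zero.1 h6.symm
  have h6 : ∀ e (n : ℕ), ∀ u ∈ Par H e, u ∈ Le H n → ∀ (m : ℕ) (b : ℤ), n < b + m → t e b b u = 0 := fun e n u hu hn m => by
    induction m with
    | succ m ih => exact fun b hb => (h5 e b u hu).trans (ih _ (by omega))
    | zero =>
      intro b hb
      have h7 : (0 : ℤ) ≤ cond e 0 1 := by cases e <;> decide
      show C.X C.R _ (H.J (C.Y C.R _ u)) + H.J (C.Y C.R _ (C.X C.R b u)) = 0
      rw [(ty_Y C (ty_R C) _).zero hn (by omega), map_zero, map_zero, zero_add,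
        Y_eq C (ty_R C) (-b) (N := n + 1) (by omega) ((ty_X C (ty_R C) b).le hn), X_eq C _ b (N := n + 1) (by omega) hn,
        sum_eq_zero fun l _ => ?_, map_zero]
      rw [map_sum, sum_eq_zero fun k _ => ?_, map_zero]
      rw [h.rr' ((ty_es C k).keep hu), (ty_R C _).zero ((ty_es C k).le hn) (by omega), map_zero]
  by_cases hxy : x = y
  · refine H.fock.b.ext fun ⟨M, i⟩ => ?_
    obtain ⟨e, he, -⟩ := b_par i
    rw [fock_b, h2 x y M e _ he, hxy, h6 e (H.rk i) _ he (b_le i) ((H.rk i - (y - M)).toNat + 1) _ (by omega), Finsupp.single_zero]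
    rfl
  · exact h1 x y hxy

/-- **the canonical anticommutation relations from part 1** -/
theorem car_of (h : P1 C) (h1 : ∀ c, H.fock.Itg (C.ps c)) (h2 : ∀ c, H.fock.Itg (C.pt c)) : CAR C where
  adj := h.adj
  itg_s := h1
  itg_t := h2
  st := by
    rintro ⟨_ | _, x⟩ ⟨_ | _, y⟩
    · simp only [h.st, Prod.mk.injEq, true_and]
    · rw [if_neg nofun, h.cross]
    · rw [if_neg nofun]
      exact adj_zero (adj_add (adj_mul (h.adj _) (adj_symm (h.adj _))) (adj_mul (adj_symm (h.adj _)) (h.adj _))) (h.cross y x)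
    · simp only [h.st, Prod.mk.injEq, true_and]
  ss := h.ss
  tt := h.tt
  om := om C
  vac_hs := vac_hs C
  rr a b i := by
    obtain ⟨e, he, h3⟩ := b_par i
    rw [h3, h.rr' he]
  ll := h.ll

end Cfsg.Agent.PQ.Car2
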