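import Cfsg.Agent.PQ.Th.Defs

/-!
# PQ, the anticommutation relations, part 2: tools (helper8)

* inner product, adjoints, `zero_of_normal` (a normal locally nilpotent operator vanishes);
* `Le`, `Par`, `Ty` : rank bounds and parity; `hh` : the operators `h k` commute;
* `inv_rule` : commutation rules for the inverse series.
-/

set_option autoImplicit false
set_option linter.unusedSectionVars false
set_option linter.unusedVariables false

namespace Cfsg.Agent.PQ.Car2

open Module Cfsg.Agent.PQ.Th Finset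
open scoped ComplexConjugate

variable {V : Type} [AddCommGroup V] [Module ℂ V] {H : HS V}

/-! ### the inner product -/

/-- the inner product with a fixed vector -/
noncomputable def ipL (H : HS V) (v : V) : V →ₗ[ℂ] ℂ :=
  Finsupp.linearCombination ℂ (fun i => conj (H.b.repr v i)) ∘ₗ H.b.repr.toLinearMap

theorem ip_eq (u v : V) : H.ip u v = ipL H v u := rfl

theorem ip_sum {u : V} (v : V) {s : Finset H.ι} (h : (H.b.repr u).support ⊆ s) :
    H.ip u v = ∑ i ∈ s, H.b.repr u i * conj (H.b.repr v i) :=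
  Finsupp.sum_of_support_subset _ h _ fun _ _ => zero_mul _

theorem ip_conj (u v : V) : conj (H.ip u v) = H.ip v u := by
  classical
  rw [ip_sum v (subset_union_left (s₂ := (H.b.repr v).support)), ip_sum u (subset_union_right (s₁ := (H.b.repr u).support)), map_sum]
  exact sum_congr rfl fun i _ => by rw [map_mul, Complex.conj_conj, mul_comm]

theorem ip_b_left (i : H.ι) (v : V) : H.ip (H.b i) v = conj (H.b.repr v i) := by
  rw [ip_eq, ipL, LinearMap.comp_apply, LinearEquiv.coe_coe, H.b.repr_self, Finsupp.linearCombination_single, one_smul]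

theorem ip_b_right (u : V) (i : H.ι) : H.ip u (H.b i) = H.b.repr u i := by rw [← ip_conj, ip_b_left, Complex.conj_conj]

theorem ip_ext {u u' : V} (h : ∀ i, H.ip u (H.b i) = H.ip u' (H.b i)) : u = u' :=
  H.b.repr.injective (Finsupp.ext fun i => by rw [← ip_b_right, ← ip_b_right, h])

theorem ip_zero_left (v : V) : H.ip 0 v = 0 := map_zero (ipL H v)

theorem ip_zero_right (u : V) : H.ip u 0 = 0 := by rw [← ip_conj, ip_zero_left, map_zero]

theorem ip_add_left (u u' v : V) : H.ip (u + u') v = H.ip u v + H.ip u' v := map_add (ipL H v) u u'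

theorem ip_add_right (u v v' : V) : H.ip u (v + v') = H.ip u v + H.ip u v' := by
  rw [← ip_conj, ip_add_left, map_add, ip_conj, ip_conj]

theorem ip_neg_left (u v : V) : H.ip (-u) v = -H.ip u v := map_neg (ipL H v) u

theorem ip_neg_right (u v : V) : H.ip u (-v) = -H.ip u v := by rw [← ip_conj, ip_neg_left, map_neg, ip_conj]

theorem ip_self {u : V} (h : H.ip u u = 0) : u = 0 := by
  rw [ip_sum u subset_rfl] at h
  simp only [Complex.mul_conj] at h
  have h1 : ∑ i ∈ (H.b.repr u).support, Complex.normSq (H.b.repr u i) = 0 := by exact_mod_cast h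
  rw [sum_eq_zero_iff_of_nonneg fun _ _ => Complex.normSq_nonneg _] at h1
  exact H.b.repr.injective (Finsupp.ext fun i => by
    by_contra h2
    rw [map_zero] at h2
    exact h2 (Complex.normSq_eq_zero.1 (h1 i (Finsupp.mem_support_iff.2 h2))))

variable {A B A' B' : End ℂ V}

theorem adj_symm (h : H.Adj A B) : H.Adj B A := fun u v => by rw [← ip_conj, ← h, ip_conj]

theorem adj_mul (h : H.Adj A B) (h' : H.Adj A' B') : H.Adj (A * A') (B' * B) := fun u v => (h _ _).trans (h' _ _)

theorem adj_add (h : H.Adj A B) (h' : H.Adj A' B') : H.Adj (A + A') (B + B') := fun u v => by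
  rw [LinearMap.add_apply, LinearMap.add_apply, ip_add_left, ip_add_right, h, h']

theorem adj_sub (h : H.Adj A B) (h' : H.Adj A' B') : H.Adj (A - A') (B - B') := fun u v => by
  rw [LinearMap.sub_apply, LinearMap.sub_apply, sub_eq_add_neg, sub_eq_add_neg, ip_add_left, ip_add_right, ip_neg_left, ip_neg_right,
    h, h']

theorem adj_zero (h : H.Adj A B) (h0 : B = 0) : A = 0 :=
  LinearMap.ext fun u => ip_ext (H := H) fun i => by rw [h, h0, LinearMap.zero_apply, LinearMap.zero_apply, ip_zero_right, ip_zero_left]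

theorem adj_unique (h : H.Adj A B) (h' : H.Adj A' B) : A = A' :=
  LinearMap.ext fun u => ip_ext (H := H) fun i => by rw [h, h']

/-- a normal locally nilpotent operator vanishes -/
theorem zero_of_normal (h : H.Adj A B) (hc : Commute A B) (hn : ∀ i, ∃ k, (A ^ k) (H.b i) = 0) : A = 0 := by
  have h1 : ∀ v, A (A v) = 0 → A v = 0 := fun v hv => by
    have h2 : B (A v) = 0 := ip_self (H := H) (by
      rw [adj_symm h, show A (B (A v)) = B (A (A v)) from LinearMap.congr_fun hc.eq (A v), hv, map_zero, ip_zero_right])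
    exact ip_self (H := H) (by rw [h, h2, ip_zero_right])
  have h3 : ∀ k v, (A ^ k) v = 0 → A v = 0 := fun k => by
    induction k with
    | zero => exact fun v hv => by rw [show v = 0 from hv, map_zero]
    | succ k ih => exact fun v hv => h1 v (ih _ (by rwa [pow_succ] at hv))
  exact H.b.ext fun i => (hn i).elim fun k hk => h3 k _ hk

theorem comm_anti {R : Type} [Ring R] [Algebra ℂ R] {a b c : R} {α β : ℂ} (h : a * c + c * a = α • 1) (h' : b * c + c * b = β • 1) :
    Commute (a * b + b * a) c := by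
  have h1 : c * a = α • 1 - a * c := eq_sub_of_add_eq' h
  have h2 : c * b = β • 1 - b * c := eq_sub_of_add_eq' h'
  show _ = _
  rw [mul_add c, ← mul_assoc c, ← mul_assoc c, h1, h2, sub_mul, sub_mul, mul_assoc a c, mul_assoc b c, h1, h2]
  simp only [mul_sub, smul_mul_assoc, mul_smul_comm, one_mul, mul_one, add_mul, mul_assoc]
  abel

theorem iter (S : ℕ → Submodule ℂ V) (h : ∀ k, ∀ w ∈ S k, A w ∈ S (k + 1)) {w : V} (hw : w ∈ S 0) : ∀ k, (A ^ k) w ∈ S k
  | 0 => hw
  | k + 1 => by rw [pow_succ']; exact h k _ (iter S h hw k)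

/-! ### rank and parity -/

theorem mk'_b (f : H.ι → V) (i : H.ι) : H.mk' f (H.b i) = f i := H.b.constr_basis ℂ f i

theorem b_mem {P : H.ι → Prop} {i : H.ι} (h : P i) : H.b i ∈ H.sup P := fun j hj => by
  rw [H.b.repr_self, Finsupp.single_eq_of_ne fun e : j = i => hj (e ▸ h)]

theorem sup_mono {P Q : H.ι → Prop} (h : ∀ i, P i → Q i) : H.sup P ≤ H.sup Q := fun _ hu i hi => hu i fun h1 => hi (h i h1)

theorem map_sup {W : Type} [AddCommGroup W] [Module ℂ W] {P : H.ι → Prop} {f : V →ₗ[ℂ] W} {S : Submodule ℂ W}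
    (h : ∀ i, P i → f (H.b i) ∈ S) {u : V} (hu : u ∈ H.sup P) : f u ∈ S := by
  rw [← H.b.linearCombination_repr u, Finsupp.linearCombination_apply, Finsupp.sum, map_sum]
  refine S.sum_mem fun i hi => ?_
  rw [map_smul]
  exact S.smul_mem _ (h i (not_not.1 fun h1 => Finsupp.mem_support_iff.1 hi (hu i h1)))

theorem sup_ext {P : H.ι → Prop} (h : ∀ i, P i → A (H.b i) = B (H.b i)) {u : V} (hu : u ∈ H.sup P) : A u = B u :=
  sub_eq_zero.1 (map_sup (f := A - B) (S := ⊥) (fun i hi => sub_eq_zero.2 (h i hi)) hu)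

/-- rank at most `n` -/
def Le (H : HS V) (n : ℤ) : Submodule ℂ V := H.sup fun i => (H.rk i : ℤ) ≤ n

/-- odd (`true`) or even (`false`) -/
def Par (H : HS V) (e : Bool) : Submodule ℂ V := H.sup fun i => Od (H.df i) ↔ e = true

theorem le_mono {m n : ℤ} (h : m ≤ n) : Le H m ≤ Le H n := sup_mono fun _ hi => hi.trans h

theorem le_neg {n : ℤ} (h : n < 0) {u : V} (hu : u ∈ Le H n) : u = 0 :=
  H.b.repr.injective (Finsupp.ext fun i => by rw [hu i (by omega), map_zero, Finsupp.zero_apply])

theorem b_le (i : H.ι) : H.b i ∈ Le H (H.rk i) := b_mem le_rfl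

theorem exists_le (u : V) : ∃ n : ℕ, u ∈ Le H n :=
  ⟨(H.b.repr u).support.sup H.rk, fun i hi => not_not.1 fun h =>
    hi (Int.ofNat_le.2 (le_sup (f := H.rk) (Finsupp.mem_support_iff.2 h)))⟩

theorem b_par (i : H.ι) : ∃ e, H.b i ∈ Par H e ∧ H.dl i = cond e 0 1 := by
  by_cases h : Od (H.df i)
  · exact ⟨true, b_mem (iff_of_true h rfl), if_pos h⟩
  · exact ⟨false, b_mem (iff_of_false h nofun), if_neg h⟩

theorem po_b (i : H.ι) : H.po (H.b i) = open Classical in if Od (H.df i) then H.b i else 0 := mk'_b _ i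

theorem pe_b (i : H.ι) : H.pe (H.b i) = open Classical in if Od (H.df i) then 0 else H.b i := mk'_b _ i

theorem po_odd {u : V} (hu : u ∈ Par H true) : H.po u = u :=
  sup_ext (B := 1) (fun i hi => by rw [po_b, if_pos (hi.2 rfl)]; rfl) hu

theorem pe_odd {u : V} (hu : u ∈ Par H true) : H.pe u = 0 :=
  sup_ext (B := 0) (fun i hi => by rw [pe_b, if_pos (hi.2 rfl)]; rfl) hu

theorem po_even {u : V} (hu : u ∈ Par H false) : H.po u = 0 :=
  sup_ext (B := 0) (fun i hi => by rw [po_b, if_neg fun h => nomatch hi.1 h]; rfl) hu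

theorem pe_even {u : V} (hu : u ∈ Par H false) : H.pe u = u :=
  sup_ext (B := 1) (fun i hi => by rw [pe_b, if_neg fun h => nomatch hi.1 h]; rfl) hu

theorem po_mem (u : V) : H.po u ∈ Par H true := map_sup (P := fun _ => True) (fun i _ => by
  rw [po_b]
  split_ifs with h
  · exact b_mem (iff_of_true h rfl)
  · exact zero_mem _) fun _ h => (h trivial).elim

theorem J_odd {u : V} (hu : u ∈ Par H true) : H.J u = u := by
  show H.po u - H.pe u = u
  rw [po_odd hu, pe_odd hu, sub_zero]

theorem J_even {u : V} (hu : u ∈ Par H false) : H.J u = -u := by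
  show H.po u - H.pe u = -u
  rw [po_even hu, pe_even hu, zero_sub]

/-- the rank grows at most by `d`, the parity changes by `f` -/
structure Ty (H : HS V) (A : End ℂ V) (d : ℤ) (f : Bool) : Prop where
  le : ∀ {n : ℤ} {u : V}, u ∈ Le H n → A u ∈ Le H (n + d)
  par : ∀ {e : Bool} {u : V}, u ∈ Par H e → A u ∈ Par H (xor e f)

variable {d d' : ℤ} {f f' : Bool}

theorem Ty.of_b (h1 : ∀ i, A (H.b i) ∈ Le H (H.rk i + d)) (h2 : ∀ e i, H.b i ∈ Par H e → A (H.b i) ∈ Par H (xor e f)) : Ty H A d f :=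
  ⟨fun hu => map_sup (fun i hi => le_mono (by omega) (h1 i)) hu, fun hu => map_sup (fun i hi => h2 _ i (b_mem hi)) hu⟩

theorem Ty.cast (h : Ty H A d f) (e : d = d') : Ty H A d' f := e ▸ h

theorem Ty.mul (h : Ty H A d f) (h' : Ty H B d' f') : Ty H (A * B) (d + d') (xor f f') :=
  ⟨fun hu => le_mono (by omega) (h.le (h'.le hu)), fun {e u} hu => by
    have h1 := h.par (h'.par hu)
    rwa [Bool.xor_assoc, Bool.xor_comm f'] at h1⟩

theorem Ty.neg (h : Ty H A d f) : Ty H (-A) d f := ⟨fun hu => neg_mem (h.le hu), fun hu => neg_mem (h.par hu)⟩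

theorem Ty.sub (h : Ty H A d f) (h' : Ty H B d f) : Ty H (A - B) d f :=
  ⟨fun hu => sub_mem (h.le hu) (h'.le hu), fun hu => sub_mem (h.par hu) (h'.par hu)⟩

theorem Ty.sum {ι : Type} {s : Finset ι} {A : ι → End ℂ V} (h : ∀ i ∈ s, Ty H (A i) d f) : Ty H (∑ i ∈ s, A i) d f :=
  ⟨fun hu => by rw [LinearMap.sum_apply]; exact Submodule.sum_mem _ fun i hi => (h i hi).le hu,
    fun hu => by rw [LinearMap.sum_apply]; exact Submodule.sum_mem _ fun i hi => (h i hi).par hu⟩

theorem Ty.one : Ty H 1 0 false := ⟨fun hu => by rwa [add_zero], fun hu => by rwa [Bool.xor_false]⟩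

theorem Ty.zero (h : Ty H A d f) {n : ℤ} {u : V} (hu : u ∈ Le H n) (hn : n + d < 0) : A u = 0 := le_neg hn (h.le hu)

theorem Ty.keep (h : Ty H A d false) {e : Bool} {u : V} (hu : u ∈ Par H e) : A u ∈ Par H e := Bool.xor_false e ▸ h.par hu

theorem ty_J : Ty H H.J 0 false := Ty.of_b (fun i => by
    obtain ⟨_ | _, h, -⟩ := b_par i
    · rw [J_even h, add_zero]
      exact neg_mem (b_le i)
    · rw [J_odd h, add_zero]
      exact b_le i) fun e i h => by
  rw [Bool.xor_false]
  cases e
  · rw [J_even h]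
    exact neg_mem h
  · rwa [J_odd h]

theorem Ty.comm_J (h : Ty H A d false) : A * H.J = H.J * A := H.b.ext fun i => by
  obtain ⟨_ | _, hi, -⟩ := b_par i
  · show A (H.J _) = H.J _
    rw [J_even hi, J_even (h.keep hi), map_neg]
  · show A (H.J _) = H.J _
    rw [J_odd hi, J_odd (h.keep hi)]

theorem Ty.nil (h : Ty H A d f) (hd : d < 0) (i : H.ι) : ∃ k, (A ^ k) (H.b i) = 0 :=
  ⟨H.rk i + 1, le_neg (n := H.rk i - (H.rk i + 1 : ℕ)) (by omega) (iter (fun k => Le H (H.rk i - k))
    (fun k w hw => le_mono (by omega) (h.le hw)) (le_mono (by omega) (b_le i)) _)⟩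

theorem hom_adj {s : ZMod 4} (h : H.Hom A d s) (ha : H.Adj A B) : H.Hom B (-d) (-s) := fun i => by
  have h1 : ∀ j, H.b.repr (B (H.b i)) j = conj (H.b.repr (A (H.b j)) i) := fun j => by
    rw [← ip_b_right, adj_symm ha, ip_b_left]
  refine ⟨fun j hj => ?_, fun j hj => ?_⟩
  · rw [h1, (h j).1 i fun e => hj (by omega), map_zero]
  · rw [h1, (h j).2 i fun e => hj (by rw [e, add_neg_cancel_right]), map_zero]

theorem ty_of_hom {s : ZMod 4} (h : H.Hom A d s) (hs : ∀ D, Od (D + s) ↔ (Od D ↔ f = false)) : Ty H A d f :=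
  Ty.of_b (fun i => sup_mono (fun _ => le_of_eq) (h i).1) fun e i hi => sup_mono (fun j hj => by
    have h1 : Od (H.df i) ↔ e = true := not_not.1 fun h2 => by
      have h3 := hi i h2
      rw [H.b.repr_self, Finsupp.single_eq_same] at h3
      exact one_ne_zero h3
    rw [hj, hs, h1]
    cases e <;> cases f <;> simp) (h i).2

theorem od_zero (D : ZMod 4) : Od (D + 0) ↔ (Od D ↔ false = false) := by simp

theorem od_one (D : ZMod 4) : Od (D + 1) ↔ (Od D ↔ true = false) := by
  unfold Od
  revert D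
  decide

theorem od_neg (D : ZMod 4) : Od (D + -1) ↔ (Od D ↔ true = false) := by
  unfold Od
  revert D
  decide

variable (C : Cyc H)

theorem hs_hom (k : ℕ) : H.Hom (C.hs k) (-k) 0 := neg_zero (G := ZMod 4) ▸ hom_adj (C.h_hom k) (C.h_adj k)

theorem L_hom (d : ℤ) : H.Hom (C.L d) d (-1) := by
  have h := hom_adj (C.R_hom (-d)) (C.R_adj (-d))
  rwa [neg_neg] at h

theorem ty_h (k : ℕ) : Ty H (C.h k) k false := ty_of_hom (C.h_hom k) od_zero

theorem ty_hs (k : ℕ) : Ty H (C.hs k) (-k) false := ty_of_hom (hs_hom C k) od_zero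

theorem ty_R (d : ℤ) : Ty H (C.R d) d true := ty_of_hom (C.R_hom d) od_one

theorem ty_L (d : ℤ) : Ty H (C.L d) d true := ty_of_hom (L_hom C d) od_neg

theorem hs_zero : C.hs 0 = 1 := adj_unique (adj_symm (C.h_adj 0)) (by rw [C.h0]; exact fun _ _ => rfl)

/-! ### the operators `h k` commute -/

theorem ez_nat (u : ℕ → End ℂ V) (k : ℕ) : ez u k = u k := if_pos (Int.natCast_nonneg k)

theorem ez_neg (u : ℕ → End ℂ V) {i : ℤ} (h : i < 0) : ez u i = 0 := if_neg h.not_ge

theorem g2z (a b : ℤ) {N : ℕ} (hN : a < N) :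
    ez C.hs a * ez C.h b = ∑ r ∈ range N, ((r : ℂ) + 1) • (ez C.h (b - r) * ez C.hs (a - r)) := by
  rcases lt_or_ge a 0 with ha | ha
  · rw [ez_neg _ ha, zero_mul]
    exact (sum_eq_zero fun r _ => by rw [ez_neg C.hs (by omega), mul_zero, smul_zero]).symm
  rcases lt_or_ge b 0 with hb | hb
  · rw [ez_neg _ hb, mul_zero]
    exact (sum_eq_zero fun r _ => by rw [ez_neg C.h (by omega), zero_mul, smul_zero]).symm
  lift a to ℕ using ha
  lift b to ℕ using hb
  rw [ez_nat, ez_nat, C.g2, ← sum_subset (range_subset_range.2 (show min a b + 1 ≤ N by omega)) fun r _ hr => ?_]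
  · refine sum_congr rfl fun r hr => ?_
    have h1 := mem_range.1 hr
    rw [← Nat.cast_sub (by omega), ← Nat.cast_sub (by omega), ez_nat, ez_nat]
  · have h1 := mt mem_range.2 hr
    rcases lt_or_ge a r with h2 | h2
    · rw [ez_neg C.hs (by omega), mul_zero, smul_zero]
    · rw [ez_neg C.h (by omega), zero_mul, smul_zero]

theorem hhz : ∀ (n : ℕ) (a b : ℤ), a + b ≤ n → ez C.h a * ez C.h b = ez C.h b * ez C.h a := by
  have h0 : ∀ a b : ℤ, a ≤ 0 → ez C.h a * ez C.h b = ez C.h b * ez C.h a := fun a b ha => by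
    rcases ha.lt_or_eq with ha | rfl
    · rw [ez_neg _ ha, zero_mul, mul_zero]
    · rw [show ez C.h 0 = 1 from (ez_nat _ 0).trans C.h0, one_mul, mul_one]
  intro n
  induction n with
  | zero => exact fun a b h => (le_or_gt a 0).elim (h0 a b) fun _ => (h0 b a (by omega)).symm
  | succ n ih =>
    intro a b h
    rcases le_or_gt a 0 with ha | ha
    · exact h0 a b ha
    rcases le_or_gt b 0 with hb | hb
    · exact (h0 b a hb).symm
    lift a to ℕ using ha.le
    lift b to ℕ using hb.le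
    have h1 : ∀ (m : ℕ) (a b : ℤ), ez C.hs m * (ez C.h a * ez C.h b) = ∑ r ∈ range (m + 1), ∑ s ∈ range (m + 1),
        (((r : ℂ) + 1) * (s + 1)) • (ez C.h (a - r) * ez C.h (b - s) * ez C.hs (m - r - s)) := fun m a b => by
      rw [← mul_assoc, g2z C m a (N := m + 1) (by omega), sum_mul]
      refine sum_congr rfl fun r _ => ?_
      rw [smul_mul_assoc, mul_assoc, g2z C (m - r) b (N := m + 1) (by omega), mul_sum, smul_sum]
      exact sum_congr rfl fun s _ => by rw [mul_smul_comm, smul_smul, mul_assoc]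
    have h2 : ∀ m : ℕ, Commute (C.hs m) (C.h a * C.h b - C.h b * C.h a) := fun m => by
      show _ = _
      rw [← ez_nat C.hs, ← ez_nat C.h, ← ez_nat C.h, mul_sub, h1, h1 m b, sum_comm (s := range (m + 1)) (t := range (m + 1))
        (f := fun r s : ℕ => (((r : ℂ) + 1) * (s + 1)) • (ez C.h (b - r) * ez C.h (a - s) * ez C.hs (m - r - s))), ← sum_sub_distrib,
        sum_eq_single_of_mem 0 (mem_range.2 m.succ_pos) fun r _ hr => ?_, ← sum_sub_distrib,
        sum_eq_single_of_mem 0 (mem_range.2 m.succ_pos) fun s _ hs => ?_]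
      · simp only [Nat.cast_zero, zero_add, mul_one, one_smul, sub_zero, sub_mul]
      · rw [ih _ _ (by omega), mul_comm ((s : ℂ) + 1), sub_right_comm, sub_self]
      · rw [← sum_sub_distrib]
        exact sum_eq_zero fun s _ => by rw [ih _ _ (by omega), mul_comm ((s : ℂ) + 1), sub_right_comm, sub_self]
    have h3 := adj_sub (adj_mul (C.h_adj a) (C.h_adj b)) (adj_mul (C.h_adj b) (C.h_adj a))
    rw [ez_nat, ez_nat]
    exact sub_eq_zero.1 (adj_zero h3 (zero_of_normal (adj_symm h3) (((h2 b).mul_left (h2 a)).sub_left ((h2 a).mul_left (h2 b)))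
      ((((ty_hs C b).mul (ty_hs C a)).sub (((ty_hs C a).mul (ty_hs C b)).cast (add_comm _ _))).nil (by omega))))

/-- **the operators `h k` commute** -/
theorem hh (k l : ℕ) : Commute (C.h k) (C.h l) := by
  have h := hhz C (k + l) k l (by omega)
  rwa [ez_nat, ez_nat] at h

theorem hs_hs (k l : ℕ) : Commute (C.hs k) (C.hs l) :=
  adj_unique (adj_mul (adj_symm (C.h_adj k)) (adj_symm (C.h_adj l)))
    ((hh C l k).eq ▸ adj_mul (adj_symm (C.h_adj l)) (adj_symm (C.h_adj k)))

/-! ### the inverse series -/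

variable {u : ℕ → End ℂ V}

theorem inv_zero (u : ℕ → End ℂ V) : inv u 0 = 1 := Cfsg.Agent.PQ.Th.inv.eq_def u 0

theorem inv_succ (u : ℕ → End ℂ V) (n : ℕ) : inv u (n + 1) = -∑ i ∈ range (n + 1), u (i + 1) * inv u (n - i) := by
  rw [sum_range fun i => u (i + 1) * inv u (n - i)]
  exact Cfsg.Agent.PQ.Th.inv.eq_def u (n + 1)

theorem inv_ind {P : ℕ → End ℂ V → Prop} (h0 : P 0 1)
    (h : ∀ n, (∀ i ≤ n, P i (inv u i)) → P (n + 1) (-∑ i ∈ range (n + 1), u (i + 1) * inv u (n - i))) (n : ℕ) : P n (inv u n) := by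
  induction n using Nat.strong_induction_on with
  | _ n ih =>
    rcases n with _ | n
    · rwa [inv_zero]
    · rw [inv_succ]
      exact h n fun i hi => ih i (by omega)

theorem comm_inv (h : ∀ k, Commute A (u k)) (n : ℕ) : Commute A (inv u n) :=
  inv_ind (P := fun _ B => Commute A B) (Commute.one_right A) (fun n ih =>
    (Commute.sum_right _ _ _ fun i _ => (h _).mul_right (ih _ (Nat.sub_le _ _))).neg_right) n

theorem ty_inv {σ : ℤ} (h : ∀ k : ℕ, Ty H (u k) (σ * k) false) (n : ℕ) : Ty H (inv u n) (σ * n) false :=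
  inv_ind (P := fun n B => Ty H B (σ * n) false) (Ty.one.cast (by simp)) (fun n ih => (Ty.sum fun i hi =>
    ((h _).mul (ih _ (Nat.sub_le _ _))).cast (by
      rw [Nat.cast_sub (Nat.le_of_lt_succ (mem_range.1 hi))]; push_cast; ring)).neg) n

theorem ty_e (n : ℕ) : Ty H (inv C.h n) n false := (ty_inv (σ := 1) (fun k => (ty_h C k).cast (one_mul _).symm) n).cast (one_mul _)

theorem ty_es (n : ℕ) : Ty H (inv C.hs n) (-n) false :=
  (ty_inv (σ := -1) (fun k => (ty_hs C k).cast (neg_one_mul _).symm) n).cast (neg_one_mul _)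

open PowerSeries in
theorem mul_inv (h0 : u 0 = 1) : mk u * mk (inv u) = 1 := PowerSeries.ext fun n => by
  rw [coeff_mul, Nat.sum_antidiagonal_eq_sum_range_succ fun i j => coeff i (mk u) * coeff j (mk (inv u)), coeff_one]
  simp only [coeff_mk]
  rcases n with _ | n
  · rw [sum_range_one, h0, one_mul, inv_zero, if_pos rfl]
  · rw [sum_range_succ', h0, one_mul, Nat.sub_zero, inv_succ, if_neg n.succ_ne_zero]
    simp only [Nat.add_sub_add_right, add_neg_cancel]

open PowerSeries in
theorem inv_mul (h0 : u 0 = 1) (hc : ∀ k l, Commute (u k) (u l)) : mk (inv u) * mk u = 1 := by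
  rw [← mul_inv h0]
  refine PowerSeries.ext fun n => ?_
  rw [coeff_mul, coeff_mul, ← Nat.sum_antidiagonal_swap]
  exact sum_congr rfl fun p _ => by
    simp only [coeff_mk, Prod.fst_swap, Prod.snd_swap]
    exact (comm_inv (hc _) _).eq.symm

open PowerSeries in
/-- **commutation rule for the inverse series** -/
theorem inv_rule (h0 : u 0 = 1) (hc : ∀ k l, Commute (u k) (u l)) (h : ∀ n, A * u (n + 1) = u (n + 1) * A + u n * B) (n : ℕ) :
    inv u (n + 1) * A = A * inv u (n + 1) + B * inv u n := by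
  have h1 : PowerSeries.C A * mk u = mk u * PowerSeries.C A + mk u * PowerSeries.C B * X := PowerSeries.ext fun n => by
    rcases n with _ | n
    · simp [h0]
    · simp only [map_add, coeff_C_mul, coeff_mul_C, coeff_succ_mul_X, coeff_mk, h]
  have h2 : mk (inv u) * PowerSeries.C A = PowerSeries.C A * mk (inv u) + PowerSeries.C B * mk (inv u) * X := by
    calc mk (inv u) * PowerSeries.C A = mk (inv u) * (PowerSeries.C A * mk u) * mk (inv u) := by
          rw [mul_assoc, mul_assoc, mul_inv h0, mul_one]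
      _ = _ := by
          rw [h1, mul_add, add_mul, ← mul_assoc, ← mul_assoc, ← mul_assoc, inv_mul h0 hc, one_mul, one_mul, mul_assoc, mul_assoc,
            (commute_X (mk (inv u))).eq]
  have h3 := congrArg (coeff (n + 1)) h2
  simpa only [map_add, coeff_C_mul, coeff_mul_C, coeff_succ_mul_X, coeff_mk] using h3

end Cfsg.Agent.PQ.Car2
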